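/-
helper80: project CTI (helper31, S4064), modules CTI-[C-DA] and CTI-[C-DB] (hedges), `_of` forms:
the statement of [C-SE] is the only hypothesis.

`D = dSub N u = N ⊓ uNu⁻¹` is a complement of `M` in `N`, regular on the involutions of `M`, and `u` inverts it.
-/
import Mathlib
import Cfsg.Agent.Lib.Helper31.CTI.Defs
import Cfsg.Agent.Lib.Helper21.StronglyEmbedded

set_option autoImplicit false

namespace Cfsg.Agent.Lib.Helper80.CTI

open Cfsg Cfsg.Agent.Lib.Helper31.CTI

variable {G : Type*} [Group G] {M N : Subgroup G}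

theorem mem_dSub_iff (N : Subgroup G) (u d : G) :
    d ∈ dSub N u ↔ d ∈ N ∧ u⁻¹ * d * u ∈ N := by
  unfold dSub
  rw [Subgroup.mem_inf, Helper21.mem_map_conj_iff]

theorem cdata_M_le_N (h : CData M N) : M ≤ N := by
  rw [h.hN]; exact Subgroup.le_normalizer

theorem cdata_conj_mem (h : CData M N) {n : G} (hn : n ∈ N) {m : G} (hm : m ∈ M) :
    n * m * n⁻¹ ∈ M := by
  rw [h.hN] at hn
  exact (Subgroup.mem_normalizer_iff.mp hn m).mp hm

/-- `M` is a normal Hall subgroup of `N`: an element of `N` whose order is prime to the index of `M` lies in `M`. -/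
theorem cdata_mem_of_coprime [Finite G] (h : CData M N) {x : G} (hx : x ∈ N)
    (hcop : (orderOf x).Coprime M.index) : x ∈ M := by
  have hMN : M ≤ N := cdata_M_le_N h
  have hnorm : (M.subgroupOf N).Normal := by
    rw [h.hN]
    exact Subgroup.normal_in_normalizer
  -- the image of x in N ⧸ M has order dividing both orderOf x and |N : M|
  set x' : N := ⟨x, hx⟩ with hx'
  have h1 : ((x' : N) : N ⧸ M.subgroupOf N) ^ (orderOf x) = 1 := by
    rw [← QuotientGroup.mk_pow]
    have : x' ^ orderOf x = 1 := by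
      apply Subtype.ext
      simp [hx', pow_orderOf_eq_one]
    rw [this]; rfl
  have h2 : ((x' : N) : N ⧸ M.subgroupOf N) ^ (M.relIndex N) = 1 := by
    have : Nat.card (N ⧸ M.subgroupOf N) = M.relIndex N := by
      rw [Subgroup.relIndex, Subgroup.index]
    rw [← this]
    exact pow_card_eq_one'
  have h3 : M.relIndex N ∣ M.index := ⟨N.index, (Subgroup.relIndex_mul_index hMN).symm⟩
  have h4 : (orderOf x).Coprime (M.relIndex N) := Nat.Coprime.coprime_dvd_right h3 hcop
  have h5 : ((x' : N) : N ⧸ M.subgroupOf N) ^ (Nat.gcd (orderOf x) (M.relIndex N)) = 1 :=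
    pow_gcd_eq_one.mpr ⟨h1, h2⟩
  rw [h4, pow_one, QuotientGroup.eq_one_iff] at h5
  exact Subgroup.mem_subgroupOf.mp h5

/-- elements of `M` have order prime to the index of `M` -/
theorem cdata_coprime_of_mem [Finite G] (h : CData M N) {x : G} (hx : x ∈ M) :
    (orderOf x).Coprime M.index := by
  have h1 : orderOf x ∣ Nat.card M := by
    have := orderOf_dvd_natCard (⟨x, hx⟩ : M)
    rwa [Subgroup.orderOf_mk] at this
  exact Nat.Coprime.coprime_dvd_left h1 h.nice.hall

/-- [C-DA], first part: `D ⊓ M = ⊥`. -/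
theorem cdata_dSub_inf_of [Finite G] (h : CData M N) {u : G} (huN : u ∉ N) :
    dSub N u ⊓ M = ⊥ := by
  rw [Subgroup.eq_bot_iff_forall]
  intro d hd
  obtain ⟨hdD, hdM⟩ := Subgroup.mem_inf.mp hd
  obtain ⟨-, hdu⟩ := (mem_dSub_iff N u d).mp hdD
  -- u⁻¹ d u ∈ N has the same order as d
  have hord : orderOf (u⁻¹ * d * u) = orderOf d := by
    have := orderOf_injective (MulAut.conj u⁻¹).toMonoidHom (MulAut.conj u⁻¹).injective d
    simpa [MulAut.conj_apply, inv_inv] using this
  have hcop : (orderOf (u⁻¹ * d * u)).Coprime M.index := by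
    rw [hord]; exact cdata_coprime_of_mem h hdM
  have hM : u⁻¹ * d * u ∈ M := cdata_mem_of_coprime h hdu hcop
  have huN' : u⁻¹ ∉ Subgroup.normalizer (M : Set G) := by
    rw [← h.hN]
    intro hc
    exact huN (by simpa using N.inv_mem hc)
  exact h.nice.ti u⁻¹ huN' d hdM (by simpa [inv_inv] using hM)

section Main

variable [Finite G]

/-- the bijection `Option D ≃ {t ∈ M | t² = 1}` and the product decomposition `N = D M`. -/
theorem cdata_dSub_of (h : CData M N) (hSE : Cfsg.IsStronglyEmbedded N)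
    {u : G} (hu : orderOf u = 2) (huN : u ∉ N) :
    dSub N u ⊓ M = ⊥ ∧ Nat.card (dSub N u) * Nat.card M = Nat.card N ∧
      Nat.card {t : G // t ∈ M ∧ t ^ 2 = 1} = Nat.card (dSub N u) + 1 := by
  classical
  have hinf := cdata_dSub_inf_of h huN
  have hMN : M ≤ N := cdata_M_le_N h
  have hDN : dSub N u ≤ N := fun d hd => ((mem_dSub_iff N u d).mp hd).1
  -- an involution of M
  obtain ⟨s₀', hs₀'⟩ := exists_prime_orderOf_dvd_card' (G := M) 2 (even_iff_two_dvd.mp h.even)
  set s₀ : G := (s₀' : G) with hs₀def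
  have hs₀M : s₀ ∈ M := s₀'.2
  have hs₀ : orderOf s₀ = 2 := by rw [hs₀def, Subgroup.orderOf_coe]; exact hs₀'
  have hs₀N : s₀ ∈ N := hMN hs₀M
  have hs₀1 : s₀ ≠ 1 := Helper21.inv_ne_one hs₀
  -- stabilizer computation: d s₀ d⁻¹ = d' s₀ d'⁻¹ with d, d' ∈ D forces d = d'
  have hfree : ∀ d ∈ dSub N u, ∀ d' ∈ dSub N u, d * s₀ * d⁻¹ = d' * s₀ * d'⁻¹ → d = d' := by
    intro d hd d' hd' heq
    have hc : d'⁻¹ * d ∈ Subgroup.centralizer ({s₀} : Set G) := by
      rw [Subgroup.mem_centralizer_iff]
      intro y hy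
      rw [Set.mem_singleton_iff] at hy
      subst hy
      calc s₀ * (d'⁻¹ * d) = d'⁻¹ * (d' * s₀ * d'⁻¹) * d := by group
        _ = d'⁻¹ * (d * s₀ * d⁻¹) * d := by rw [heq]
        _ = d'⁻¹ * d * s₀ := by group
    have hM' : d'⁻¹ * d ∈ M := h.nice.cc s₀ hs₀M hs₀1 hc
    have hD' : d'⁻¹ * d ∈ dSub N u := (dSub N u).mul_mem ((dSub N u).inv_mem hd') hd
    have : d'⁻¹ * d ∈ dSub N u ⊓ M := Subgroup.mem_inf.mpr ⟨hD', hM'⟩
    rw [hinf, Subgroup.mem_bot] at this
    calc d = d' * (d'⁻¹ * d) := by group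
      _ = d' := by rw [this, mul_one]
  refine ⟨hinf, ?_, ?_⟩
  · -- N = D M
    let f : (dSub N u) × M → N := fun p => ⟨(p.1 : G) * (p.2 : G), N.mul_mem (hDN p.1.2) (hMN p.2.2)⟩
    have hf : Function.Bijective f := by
      constructor
      · rintro ⟨⟨d, hd⟩, ⟨m, hm⟩⟩ ⟨⟨d', hd'⟩, ⟨m', hm'⟩⟩ heq
        have heq' : d * m = d' * m' := congrArg Subtype.val heq
        have h1 : d'⁻¹ * d = m' * m⁻¹ := by
          calc d'⁻¹ * d = d'⁻¹ * (d * m) * m⁻¹ := by group
            _ = d'⁻¹ * (d' * m') * m⁻¹ := by rw [heq']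
            _ = m' * m⁻¹ := by group
        have h2 : d'⁻¹ * d ∈ dSub N u ⊓ M := by
          refine Subgroup.mem_inf.mpr ⟨(dSub N u).mul_mem ((dSub N u).inv_mem hd') hd, ?_⟩
          rw [h1]; exact M.mul_mem hm' (M.inv_mem hm)
        rw [hinf, Subgroup.mem_bot] at h2
        have hdd : d = d' := by
          calc d = d' * (d'⁻¹ * d) := by group
            _ = d' := by rw [h2, mul_one]
        subst hdd
        have hmm : m = m' := mul_left_cancel heq'
        subst hmm
        rfl
      · rintro ⟨n, hn⟩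
        -- n s₀ n⁻¹ is an involution of N
        have h1 : orderOf (n * s₀ * n⁻¹) = 2 := Helper21.orderOf_conj_eq_two hs₀ n
        have h2 : n * s₀ * n⁻¹ ∈ N := N.mul_mem (N.mul_mem hn hs₀N) (N.inv_mem hn)
        obtain ⟨d, hd, hdeq⟩ := Helper21.se_involutions_conj_in_inter hSE hu huN hs₀ hs₀N h1 h2
        have hd' : d ∈ dSub N u := hd
        have hc : d⁻¹ * n ∈ Subgroup.centralizer ({s₀} : Set G) := by
          rw [Subgroup.mem_centralizer_iff]
          intro y hy
          rw [Set.mem_singleton_iff] at hy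
          subst hy
          calc s₀ * (d⁻¹ * n) = d⁻¹ * (d * s₀ * d⁻¹) * n := by group
            _ = d⁻¹ * (n * s₀ * n⁻¹) * n := by rw [hdeq]
            _ = d⁻¹ * n * s₀ := by group
        have hM' : d⁻¹ * n ∈ M := h.nice.cc s₀ hs₀M hs₀1 hc
        refine ⟨(⟨d, hd'⟩, ⟨d⁻¹ * n, hM'⟩), ?_⟩
        apply Subtype.ext
        show d * (d⁻¹ * n) = n
        group
    rw [← Nat.card_prod]
    exact Nat.card_congr (Equiv.ofBijective f hf)
  · -- Option D ≃ {t ∈ M | t² = 1}
    let g : Option (dSub N u) → {t : G // t ∈ M ∧ t ^ 2 = 1} := fun o =>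
      match o with
      | none => ⟨1, M.one_mem, one_pow 2⟩
      | some d => ⟨(d : G) * s₀ * (d : G)⁻¹, cdata_conj_mem h (hDN d.2) hs₀M, by
          have : ((d : G) * s₀ * (d : G)⁻¹) ^ 2 = (d : G) * s₀ ^ 2 * (d : G)⁻¹ := by
            rw [pow_two, pow_two]; group
          rw [this, ← hs₀, pow_orderOf_eq_one]; group⟩
    have hg : Function.Bijective g := by
      constructor
      · rintro (_ | d) (_ | d') heq
        · rfl
        · exfalso
          have h1 : (1 : G) = (d' : G) * s₀ * (d' : G)⁻¹ := congrArg Subtype.val heq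
          apply hs₀1
          calc s₀ = (d' : G)⁻¹ * ((d' : G) * s₀ * (d' : G)⁻¹) * (d' : G) := by group
            _ = 1 := by rw [← h1]; group
        · exfalso
          have h1 : (d : G) * s₀ * (d : G)⁻¹ = 1 := congrArg Subtype.val heq
          apply hs₀1
          calc s₀ = (d : G)⁻¹ * ((d : G) * s₀ * (d : G)⁻¹) * (d : G) := by group
            _ = 1 := by rw [h1]; group
        · have h1 : (d : G) * s₀ * (d : G)⁻¹ = (d' : G) * s₀ * (d' : G)⁻¹ := congrArg Subtype.val heq
          have := hfree d d.2 d' d'.2 h1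
          exact congrArg some (Subtype.ext this)
      · rintro ⟨t, htM, ht2⟩
        by_cases ht1 : t = 1
        · exact ⟨none, Subtype.ext ht1.symm⟩
        · have hto : orderOf t = 2 := by
            apply Helper21.orderOf_eq_two_of ht1
            rw [← pow_two]; exact ht2
          obtain ⟨d, hd, hdeq⟩ :=
            Helper21.se_involutions_conj_in_inter hSE hu huN hs₀ hs₀N hto (hMN htM)
          exact ⟨some ⟨d, hd⟩, Subtype.ext hdeq⟩
    rw [← Finite.card_option]
    exact (Nat.card_congr (Equiv.ofBijective g hg)).symm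

/-- the number of involutions of `N` is `|D|` -/
theorem card_involutions_of (h : CData M N)
    (hINV : ∀ t : G, t ∈ N → orderOf t = 2 → t ∈ M ∧ ∀ m ∈ M, m * t = t * m)
    {u : G}
    (hDA : Nat.card {t : G // t ∈ M ∧ t ^ 2 = 1} = Nat.card (dSub N u) + 1) :
    Nat.card {t : G // orderOf t = 2 ∧ t ∈ N} = Nat.card (dSub N u) := by
  classical
  have hMN : M ≤ N := cdata_M_le_N h
  let g : Option {t : G // orderOf t = 2 ∧ t ∈ N} → {t : G // t ∈ M ∧ t ^ 2 = 1} := fun o =>
    match o with
    | none => ⟨1, M.one_mem, one_pow 2⟩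
    | some t => ⟨t.1, (hINV t.1 t.2.2 t.2.1).1, by
        have := pow_orderOf_eq_one t.1
        rw [t.2.1] at this
        exact this⟩
  have hg : Function.Bijective g := by
    constructor
    · rintro (_ | t) (_ | t') heq
      · rfl
      · exfalso
        have h1 := congrArg Subtype.val heq
        change (1 : G) = t'.1 at h1
        exact Helper21.inv_ne_one t'.2.1 h1.symm
      · exfalso
        have h1 := congrArg Subtype.val heq
        change t.1 = 1 at h1
        exact Helper21.inv_ne_one t.2.1 h1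
      · have h1 := congrArg Subtype.val heq
        change t.1 = t'.1 at h1
        exact congrArg some (Subtype.ext h1)
    · rintro ⟨t, htM, ht2⟩
      by_cases ht1 : t = 1
      · exact ⟨none, Subtype.ext ht1.symm⟩
      · have hto : orderOf t = 2 := by
          apply Helper21.orderOf_eq_two_of ht1
          rw [← pow_two]; exact ht2
        exact ⟨some ⟨t, hto, hMN htM⟩, rfl⟩
  have h1 : Nat.card (Option {t : G // orderOf t = 2 ∧ t ∈ N}) =
      Nat.card {t : G // t ∈ M ∧ t ^ 2 = 1} := Nat.card_congr (Equiv.ofBijective g hg)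
  rw [Finite.card_option, hDA] at h1
  exact Nat.succ_injective h1

/-- [C-DB] in `_of` form: `u` inverts `D`. -/
theorem cdata_dSub_inverts_of (h : CData M N) (hSE : Cfsg.IsStronglyEmbedded N)
    (hINV : ∀ t : G, t ∈ N → orderOf t = 2 → t ∈ M ∧ ∀ m ∈ M, m * t = t * m)
    {u : G} (hu : orderOf u = 2) (huN : u ∉ N)
    (hDA : Nat.card {t : G // t ∈ M ∧ t ^ 2 = 1} = Nat.card (dSub N u) + 1) :
    ∀ d ∈ dSub N u, u * d * u⁻¹ = d⁻¹ := by
  classical
  have huu : u * u = 1 := Helper21.inv_mul_self hu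
  have huinv : u⁻¹ = u := Helper21.inv_inv_eq hu
  set α : G ⧸ N := QuotientGroup.mk 1 with hα
  have hαβ : α ≠ u • α := by
    intro heq
    apply huN
    exact (Helper21.smul_mk_one_eq_iff (H := N) u).mp heq.symm
  -- the involutions mapping α to u • α
  have hcard : Nat.card {i : G // orderOf i = 2 ∧ i • α = u • α} = Nat.card (dSub N u) := by
    rw [Helper21.se_card_swapping hSE hαβ]
    exact card_involutions_of h hINV hDA
  -- each of them lies in u D
  have hmem : ∀ i : G, orderOf i = 2 → i • α = u • α → u⁻¹ * i ∈ dSub N u := by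
    intro i hi hiα
    have hii : i * i = 1 := Helper21.inv_mul_self hi
    rw [mem_dSub_iff]
    constructor
    · -- u⁻¹ i fixes α
      have : (u⁻¹ * i) • α = α := by
        rw [mul_smul, hiα, ← mul_smul, inv_mul_cancel, one_smul]
      exact (Helper21.smul_mk_one_eq_iff (H := N) _).mp this
    · -- i u fixes α
      have h1 : i • (u • α) = α := by
        rw [← hiα, ← mul_smul, hii, one_smul]
      have h2 : (i * u) • α = α := by rw [mul_smul, h1]
      have h3 : i * u ∈ N := (Helper21.smul_mk_one_eq_iff (H := N) _).mp h2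
      have : u⁻¹ * (u⁻¹ * i) * u = i * u := by
        rw [huinv]
        calc u * (u * i) * u = (u * u) * i * u := by group
          _ = i * u := by rw [huu, one_mul]
      rw [this]; exact h3
  let f : {i : G // orderOf i = 2 ∧ i • α = u • α} → dSub N u :=
    fun i => ⟨u⁻¹ * i.1, hmem i.1 i.2.1 i.2.2⟩
  have hfinj : Function.Injective f := by
    rintro ⟨i, hi⟩ ⟨j, hj⟩ heq
    have : u⁻¹ * i = u⁻¹ * j := congrArg Subtype.val heq
    exact Subtype.ext (mul_left_cancel this)
  have hfbij : Function.Bijective f :=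
    (Function.Injective.bijective_of_nat_card_le hfinj (le_of_eq hcard.symm))
  intro d hd
  obtain ⟨⟨i, hi2, hiα⟩, hfi⟩ := hfbij.2 ⟨d, hd⟩
  have hid : u⁻¹ * i = d := congrArg Subtype.val hfi
  have hi : i = u * d := by rw [← hid]; group
  have hii : i * i = 1 := Helper21.inv_mul_self hi2
  rw [hi] at hii
  -- (u d)(u d) = 1
  rw [huinv]
  calc u * d * u = (u * d * (u * d)) * d⁻¹ := by group
    _ = d⁻¹ := by rw [hii, one_mul]

end Main

end Cfsg.Agent.Lib.Helper80.CTI
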