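/-
helper80: project CTI (helper31, S4064), modules CTI-[C-DA] and CTI-[C-DB] (hedges): the EXACT sheet statements,
in the sub-namespace `Cfsg.Agent.Lib.Helper31.CTI.H80` (so that they cannot collide with the primary copies).
-/
import Cfsg.Agent.Lib.Helper80.CTI.DSubOf
import Cfsg.Agent.Lib.Helper62.CTI.CInv

set_option autoImplicit false

namespace Cfsg.Agent.Lib.Helper31.CTI.H80

open Cfsg Cfsg.Agent.Lib.Helper31.CTI

variable {G : Type*} [Group G] {M N : Subgroup G}

/-- [C-DA] the two-point stabilizer `D = N ∩ uNu⁻¹` is a complement of `M` in `N`, acting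
regularly on the involutions of `M`. -/
theorem cdata_dSub [Finite G] (h : CData M N) {u : G} (hu : orderOf u = 2) (huN : u ∉ N) :
    dSub N u ⊓ M = ⊥ ∧ Nat.card (dSub N u) * Nat.card M = Nat.card N ∧
      Nat.card {t : G // t ∈ M ∧ t ^ 2 = 1} = Nat.card (dSub N u) + 1 :=
  Cfsg.Agent.Lib.Helper80.CTI.cdata_dSub_of h (cdata_stronglyEmbedded h) hu huN

/-- [C-DB] `u` inverts `D`. -/
theorem cdata_dSub_inverts [Finite G] (h : CData M N) {u : G} (hu : orderOf u = 2) (huN : u ∉ N) :
    ∀ d ∈ dSub N u, u * d * u⁻¹ = d⁻¹ :=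
  Cfsg.Agent.Lib.Helper80.CTI.cdata_dSub_inverts_of h (cdata_stronglyEmbedded h)
    (fun _ htN ht => cdata_involution h htN ht) hu huN (cdata_dSub h hu huN).2.2

end Cfsg.Agent.Lib.Helper31.CTI.H80
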